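import Groth.Agent.S9237
import Groth.Agent.Lib.Henselian.Henselization
import Groth.Agent.Lib.Henselian.Permanence
import Groth.Agent.Lib.Henselian.QuasiFinite
import Groth.Agent.Lib.Henselian.LocalRing
import Groth.Agent.Lib.Henselian.Unibranch
import Groth.Agent.Lib.Unram.BranchHenselian
import Groth.Agent.Lib.Dim.FieldExt

/-!
# Branches do not decrease along finite covers of normal domains
-/

set_option autoImplicit false
set_option linter.style.haveILetI false

universe u

open IsLocalRing
open scoped TensorProduct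

namespace Groth.Agent.Lib.BranchIneq74.Basic

open Groth.Agent.Lib

section Quot

variable (A : Type u) [CommRing A] [IsLocalRing A] (I : Ideal A) (hI : I ≠ ⊤)

include hI in
/-- The branches of a quotient, read off from the henselization. -/
theorem numBranches_quotient :
    haveI : Nontrivial (A ⧸ I) := Ideal.Quotient.nontrivial_iff.mpr hI
    haveI : IsLocalRing (A ⧸ I) := .of_surjective' _ Ideal.Quotient.mk_surjective
    ENat.card ((I.map (algebraMap A (Henselian.Henselization.Henselization A))).minimalPrimes) =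
      Brnch.numBranches (A ⧸ I) := by
  haveI : Nontrivial (A ⧸ I) := Ideal.Quotient.nontrivial_iff.mpr hI
  haveI : IsLocalRing (A ⧸ I) := .of_surjective' _ Ideal.Quotient.mk_surjective
  let S := Henselian.Henselization.Henselization A
  let J : Ideal S := I.map (algebraMap A S)
  have hJ : J ≠ ⊤ := fun h => by
    have h1 : J ≤ maximalIdeal S := by
      rw [← Henselian.Henselization.map_maximalIdeal A S]
      exact Ideal.map_mono (le_maximalIdeal hI)
    exact (maximalIdeal.isMaximal S).ne_top (top_le_iff.mp (h ▸ h1))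
  haveI : Nontrivial (S ⧸ J) := Ideal.Quotient.nontrivial_iff.mpr hJ
  haveI : IsLocalRing (S ⧸ J) := .of_surjective' _ Ideal.Quotient.mk_surjective
  letI : Algebra (A ⧸ I) (S ⧸ J) := (Ideal.quotientMap J (algebraMap A S) Ideal.le_comap_map).toAlgebra
  have hloc : IsLocalHom (algebraMap (A ⧸ I) (S ⧸ J)) := by
    constructor
    intro x hx
    obtain ⟨a, rfl⟩ := Ideal.Quotient.mk_surjective x
    by_contra hu
    have ha : ¬ IsUnit a := fun h => hu (h.map _)
    have ha' : ¬ IsUnit (algebraMap A S a) := fun h => ha (isUnit_of_map_unit (algebraMap A S) a h)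
    haveI : IsLocalHom (Ideal.Quotient.mk J) := .of_surjective _ Ideal.Quotient.mk_surjective
    exact ha' ((isUnit_map_iff (Ideal.Quotient.mk J) _).mp hx)
  haveI := hloc
  haveI : Hensel.IsHenselization (A ⧸ I) (S ⧸ J) := by
    haveI : HenselianLocalRing S := inferInstance
    refine ⟨Henselian.LocalRing.henselianLocalRing_of_isIntegral S (S ⧸ J), fun T _ _ f hf => ?_⟩
    haveI : IsLocalHom (f.comp (Ideal.Quotient.mk I)) := by
      haveI := hf
      haveI : IsLocalHom (Ideal.Quotient.mk I) :=
        .of_surjective _ Ideal.Quotient.mk_surjective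
      exact RingHom.isLocalHom_comp _ _
    obtain ⟨g, hg, hgu⟩ := Hensel.IsHenselization.universal (R := A) (S := S) T (f.comp (Ideal.Quotient.mk I)) this
    have hker : ∀ s ∈ J, g s = 0 := fun s hs => by
      have : J ≤ RingHom.ker g := Ideal.map_le_iff_le_comap.mpr fun a ha => by
        rw [Ideal.mem_comap, RingHom.mem_ker, show g (algebraMap A S a) = f (Ideal.Quotient.mk I a) from
          RingHom.congr_fun hg a, Ideal.Quotient.eq_zero_iff_mem.mpr ha, map_zero]
      exact this hs
    refine ⟨Ideal.Quotient.lift J g hker, Ideal.Quotient.ringHom_ext ?_, fun g' hg' => ?_⟩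
    · ext a
      exact RingHom.congr_fun hg a
    · refine Ideal.Quotient.ringHom_ext ?_
      rw [hgu (g'.comp (Ideal.Quotient.mk J)) (by
        ext a
        exact RingHom.congr_fun hg' (Ideal.Quotient.mk I a))]
      ext s
      rfl
  rw [← Groth.Agent.S9237.result (A ⧸ I) (S ⧸ J), Ideal.minimalPrimes_eq_comap]
  exact (ENat.card_congr
    (Equiv.Set.image _ _ (Ideal.comap_injective_of_surjective _ Ideal.Quotient.mk_surjective))).symm

end Quot

/-- The number of branches is invariant under isomorphism. -/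
theorem numBranches_congr {A B : Type u} [CommRing A] [CommRing B] [IsLocalRing A] [IsLocalRing B]
    (e : A ≃+* B) : Brnch.numBranches A = Brnch.numBranches B := by
  let S := Henselian.Henselization.Henselization A
  letI : Algebra B S := ((algebraMap A S).comp e.symm.toRingHom).toAlgebra
  haveI : IsLocalHom (algebraMap B S) := by
    refine ⟨fun b hb => ?_⟩
    have h : IsUnit (e.symm b) := isUnit_of_map_unit (algebraMap A S) _ hb
    simpa using h.map e
  haveI : Hensel.IsHenselization B S := by
    refine ⟨inferInstance, fun T _ _ f hf => ?_⟩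
    haveI := hf
    haveI : IsLocalHom (f.comp e.toRingHom) := by
      refine ⟨fun a ha => ?_⟩
      have h : IsUnit (e a) := isUnit_of_map_unit f _ ha
      simpa using h.map e.symm
    obtain ⟨g, hg, hgu⟩ := Hensel.IsHenselization.universal (R := A) (S := S) T (f.comp e.toRingHom) inferInstance
    refine ⟨g, RingHom.ext fun b => ?_, fun g' hg' => hgu g' (RingHom.ext fun a => ?_)⟩
    · exact (RingHom.congr_fun hg (e.symm b)).trans (congrArg f (e.apply_symm_apply b))
    · have h := RingHom.congr_fun hg' (e a)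
      simp only [RingHom.comp_apply, RingHom.algebraMap_toAlgebra, RingEquiv.toRingHom_eq_coe,
        RingEquiv.coe_toRingHom, e.symm_apply_apply] at h
      exact h
  rw [← Groth.Agent.S9237.result A S, ← Groth.Agent.S9237.result B S]

variable (R₀ S₀ A B : Type u) [CommRing R₀] [CommRing S₀] [CommRing A] [CommRing B]
  [IsDomain R₀] [IsNoetherianRing R₀] [IsDomain S₀] [Algebra R₀ S₀] [Module.Finite R₀ S₀]
  (m : Ideal R₀) [m.IsPrime] (n : Ideal S₀) [n.IsPrime]
  [Algebra R₀ A] [IsLocalization.AtPrime A m] [Algebra S₀ B] [IsLocalization.AtPrime B n]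
  [IsLocalRing A] [IsLocalRing B] [IsDomain A] [IsIntegrallyClosed A]

set_option maxHeartbeats 1000000 in
/-- The branches of a closed subscheme downstairs are at most those of one upstairs containing all
primes over its generic points. -/
theorem numBranches_le (hinj : Function.Injective (algebraMap R₀ S₀)) (hn : n.comap (algebraMap R₀ S₀) = m)
    (φ : A →+* B) [IsLocalHom φ]
    (hφ : φ.comp (algebraMap R₀ A) = (algebraMap S₀ B).comp (algebraMap R₀ S₀))
    (I : Ideal A) (J : Ideal B) (hI : I ≠ ⊤) (hJ : J ≠ ⊤)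
    (h1 : ∀ q : Ideal B, q.IsPrime → q.comap φ ∈ I.minimalPrimes → J ≤ q)
    (h2 : ∀ q : Ideal B, q.IsPrime → J ≤ q → I ≤ q.comap φ) :
    haveI : Nontrivial (A ⧸ I) := Ideal.Quotient.nontrivial_iff.mpr hI
    haveI : IsLocalRing (A ⧸ I) := .of_surjective' _ Ideal.Quotient.mk_surjective
    haveI : Nontrivial (B ⧸ J) := Ideal.Quotient.nontrivial_iff.mpr hJ
    haveI : IsLocalRing (B ⧸ J) := .of_surjective' _ Ideal.Quotient.mk_surjective
    Brnch.numBranches (A ⧸ I) ≤ Brnch.numBranches (B ⧸ J) := by
  rw [← numBranches_quotient A I hI, ← numBranches_quotient B J hJ]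
  let Ah := Henselian.Henselization.Henselization A
  let Bh := Henselian.Henselization.Henselization B
  haveI := Henselian.Henselization.faithfullyFlat A Ah
  -- the henselization of a normal domain is a domain
  haveI : IsDomain Ah := by
    have hind : EtPBC.IsIndEtale A Ah := IndEtale.Basic.of_algEquiv Henselian.IndEtale.isIndEtale_lim
      (Henselian.Henselization.equivOfIsHenselization A Ah)
    haveI := Unram.BranchHenselian.isDomain_localization A Ah hind (maximalIdeal Ah)
    exact (IsLocalization.atUnits Ah (maximalIdeal Ah).primeCompl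
      (S := Localization.AtPrime (maximalIdeal Ah)) (fun x hx =>
        show IsUnit x from not_not.mp hx)).toMulEquiv.isDomain
  letI : Algebra R₀ Ah := ((algebraMap A Ah).comp (algebraMap R₀ A)).toAlgebra
  haveI : IsScalarTower R₀ A Ah := IsScalarTower.of_algebraMap_eq' rfl
  haveI : Module.Flat R₀ A := IsLocalization.flat A m.primeCompl
  haveI : Module.Flat R₀ Ah := Module.Flat.trans R₀ A Ah
  let C := Ah ⊗[R₀] S₀
  let iS : S₀ →+* C := (Algebra.TensorProduct.includeRight (R := R₀) (A := Ah) (B := S₀)).toRingHom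
  have hcomm : ∀ r : R₀, iS (algebraMap R₀ S₀ r) = algebraMap Ah C (algebraMap R₀ Ah r) := fun r =>
    (Algebra.TensorProduct.includeRight (R := R₀) (A := Ah) (B := S₀)).commutes r
  -- the maximal ideal of `C` over `n`
  let kB := ResidueField B
  let fA : A →+* kB := (residue B).comp φ
  haveI : IsLocalHom fA := RingHom.isLocalHom_comp _ _
  obtain ⟨σ, hσ, -⟩ := Hensel.IsHenselization.universal (R := A) (S := Ah) kB fA inferInstance
  letI : Algebra R₀ kB := (fA.comp (algebraMap R₀ A)).toAlgebra
  let σₐ : Ah →ₐ[R₀] kB :=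
    { σ with commutes' := fun r => RingHom.congr_fun hσ (algebraMap R₀ A r) }
  let τS : S₀ →ₐ[R₀] kB :=
    { (residue B).comp (algebraMap S₀ B) with
      commutes' := fun r => congrArg (residue B) (RingHom.congr_fun hφ r).symm }
  let τ : C →ₐ[R₀] kB := Algebra.TensorProduct.lift σₐ τS fun _ _ => Commute.all _ _
  let N : Ideal C := RingHom.ker τ
  haveI : N.IsPrime := RingHom.ker_isPrime _
  have hNA : N.comap (algebraMap Ah C) = maximalIdeal Ah := by
    refine le_antisymm (le_maximalIdeal (Ideal.IsPrime.ne_top (Ideal.comap_isPrime _ _))) ?_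
    rw [← Henselian.Henselization.map_maximalIdeal A Ah, Ideal.map_le_iff_le_comap]
    intro a ha
    show τ (algebraMap A Ah a ⊗ₜ[R₀] (1 : S₀)) = 0
    rw [Algebra.TensorProduct.lift_tmul, map_one, mul_one]
    show σ (algebraMap A Ah a) = 0
    rw [show σ (algebraMap A Ah a) = residue B (φ a) from RingHom.congr_fun hσ a, residue_eq_zero_iff]
    exact map_nonunit φ a ha
  haveI : Algebra.IsIntegral Ah C := Algebra.IsIntegral.of_finite Ah C
  haveI : N.IsMaximal := Ideal.isMaximal_of_isIntegral_of_isMaximal_comap (R := Ah) N (by rw [hNA]; infer_instance)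
  have hNS : N.comap iS = n := by
    ext s
    show τ ((1 : Ah) ⊗ₜ[R₀] s) = 0 ↔ _
    rw [Algebra.TensorProduct.lift_tmul, map_one, one_mul]
    show residue B (algebraMap S₀ B s) = 0 ↔ _
    rw [residue_eq_zero_iff]
    exact IsLocalization.AtPrime.to_map_mem_maximal_iff B n s
  -- a component of `C` through `N`
  have hnzd : ∀ a : Ah, a ≠ 0 → algebraMap Ah C a ∈ nonZeroDivisors C := by
    intro a ha0
    refine mem_nonZeroDivisors_iff_right.mpr fun t ht => ?_
    haveI : Module.IsTorsionFree R₀ S₀ := by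
      haveI : FaithfulSMul R₀ S₀ := (faithfulSMul_iff_algebraMap_injective R₀ S₀).mpr hinj
      infer_instance
    obtain ⟨r, f, hf⟩ := Dim.FieldExt.exists_injective_pi R₀ S₀
    have hF : Function.Injective (f.baseChange Ah) :=
      Module.Flat.lTensor_preserves_injective_linearMap f hf
    let e := TensorProduct.piScalarRight R₀ Ah Ah (Fin r)
    have h1 : a • t = 0 := by rw [Algebra.smul_def, mul_comm]; exact ht
    have h2 := congrArg (fun z => e (f.baseChange Ah z)) h1
    simp only [map_smul, map_zero] at h2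
    exact hF (e.injective (by rw [(smul_eq_zero.mp h2).resolve_left ha0, map_zero, map_zero]))
  obtain ⟨Q₀, hQ₀, hQ₀N⟩ := Ideal.exists_minimalPrimes_le (I := (⊥ : Ideal C)) (J := N) bot_le
  haveI := hQ₀.1.1
  let CN := C ⧸ Q₀
  haveI : Algebra.IsIntegral Ah CN := ⟨fun x => by
    obtain ⟨x, rfl⟩ := Ideal.Quotient.mk_surjective x
    exact (Algebra.IsIntegral.isIntegral (R := Ah) x).map (Ideal.Quotient.mkₐ Ah Q₀)⟩
  haveI : IsLocalRing CN := Henselian.Unibranch.isLocalRing_of_isDomain Ah CN
  let π : Ah →+* CN := algebraMap Ah CN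
  have hπint : π.IsIntegral := algebraMap_isIntegral_iff.mpr inferInstance
  have hπinj : Function.Injective π := by
    rw [injective_iff_map_eq_zero]
    intro a ha
    by_contra ha0
    exact Set.disjoint_left.mp (Ideal.disjoint_nonZeroDivisors_of_mem_minimalPrimes hQ₀)
      (Ideal.Quotient.eq_zero_iff_mem.mp ha) (hnzd a ha0)
  have hmaxD : (maximalIdeal CN).comap (Ideal.Quotient.mk Q₀) = N := by
    have hmap : (N.map (Ideal.Quotient.mk Q₀)).IsMaximal := by
      refine (Ideal.map_eq_top_or_isMaximal_of_surjective _ Ideal.Quotient.mk_surjective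
        (inferInstance : N.IsMaximal)).resolve_left fun htop => ?_
      have := congrArg (Ideal.comap (Ideal.Quotient.mk Q₀)) htop
      rw [Ideal.comap_map_of_surjective _ Ideal.Quotient.mk_surjective, Ideal.comap_top,
        ← RingHom.ker_eq_comap_bot, Ideal.mk_ker, sup_eq_left.mpr hQ₀N] at this
      exact Ideal.IsPrime.ne_top inferInstance this
    rw [← eq_maximalIdeal hmap, Ideal.comap_map_of_surjective _ Ideal.Quotient.mk_surjective,
      ← RingHom.ker_eq_comap_bot, Ideal.mk_ker, sup_eq_left.mpr hQ₀N]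
  have hunit : ∀ s : n.primeCompl, IsUnit ((Ideal.Quotient.mk Q₀).comp iS s) := fun s => by
    by_contra hu
    exact s.2 (hNS.le (show iS s ∈ N from hmaxD.le hu))
  let ψ : B →+* CN := IsLocalization.lift hunit
  haveI : HenselianLocalRing CN := Henselian.LocalRing.henselianLocalRing_of_isIntegral Ah CN
  haveI : IsLocalHom π := RingHom.IsIntegral.isLocalHom hπint hπinj
  haveI : IsLocalHom ψ := by
    refine ⟨fun b hb => ?_⟩
    obtain ⟨s, t, rfl⟩ := IsLocalization.exists_mk'_eq n.primeCompl b
    rw [IsLocalization.AtPrime.isUnit_mk'_iff B n s t]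
    rw [IsLocalization.lift_mk', Units.isUnit_mul_units] at hb
    intro hs
    exact (hmaxD.ge (hNS.ge hs) : _) hb
  obtain ⟨g, hg, -⟩ := Hensel.IsHenselization.universal (R := B) (S := Bh) CN ψ inferInstance
  haveI : IsLocalHom ((algebraMap B Bh).comp φ) := RingHom.isLocalHom_comp _ _
  obtain ⟨h, hh, -⟩ := Hensel.IsHenselization.universal (R := A) (S := Ah) Bh ((algebraMap B Bh).comp φ)
    inferInstance
  haveI : IsLocalHom (π.comp (algebraMap A Ah)) := by
    exact RingHom.isLocalHom_comp _ _
  have hψφ : ψ.comp φ = π.comp (algebraMap A Ah) := by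
    refine IsLocalization.ringHom_ext m.primeCompl (RingHom.ext fun r => ?_)
    show ψ (φ (algebraMap R₀ A r)) = Ideal.Quotient.mk Q₀ (algebraMap Ah C (algebraMap A Ah (algebraMap R₀ A r)))
    rw [show φ (algebraMap R₀ A r) = algebraMap S₀ B (algebraMap R₀ S₀ r) from RingHom.congr_fun hφ r,
      IsLocalization.lift_eq, RingHom.comp_apply, hcomm]
    rfl
  have hgh : g.comp h = π := by
    obtain ⟨u₀, -, huniq⟩ := Hensel.IsHenselization.universal (R := A) (S := Ah) CN
      (π.comp (algebraMap A Ah)) inferInstance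
    refine (huniq _ ?_).trans (huniq π rfl).symm
    show (g.comp h).comp (algebraMap A Ah) = π.comp (algebraMap A Ah)
    rw [RingHom.comp_assoc, hh, ← RingHom.comp_assoc, hg, hψφ]
  -- lifting minimal primes
  let IA : Ideal Ah := I.map (algebraMap A Ah)
  let JB : Ideal Bh := J.map (algebraMap B Bh)
  have hpre : ∀ Q : Ideal Bh, (Q.comap h).comap (algebraMap A Ah) =
      (Q.comap (algebraMap B Bh)).comap φ := fun Q => by
    rw [Ideal.comap_comap, hh, ← Ideal.comap_comap]
  have hinc : ∀ q q' : Ideal B, q.IsPrime → q'.IsPrime → q' ≤ q → q'.comap φ = q.comap φ → q' = q := by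
    intro q q' hq hq' hle heq
    have hS : q'.comap (algebraMap S₀ B) = q.comap (algebraMap S₀ B) := by
      by_contra hne
      haveI : Algebra.IsIntegral R₀ S₀ := Algebra.IsIntegral.of_finite R₀ S₀
      haveI := Ideal.comap_isPrime (algebraMap S₀ B) q'
      have := Ideal.IsIntegral.comap_lt_comap (R := R₀) (lt_of_le_of_ne (Ideal.comap_mono hle) hne)
      refine this.ne ?_
      rw [Ideal.comap_comap, Ideal.comap_comap, ← hφ, ← Ideal.comap_comap, ← Ideal.comap_comap, heq]
    rw [← IsLocalization.map_under n.primeCompl B q', ← IsLocalization.map_under n.primeCompl B q]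
    exact congrArg (Ideal.map (algebraMap S₀ B)) hS
  have key : ∀ P : IA.minimalPrimes, ∃ Q : JB.minimalPrimes, Q.1.comap h = P.1 := by
    rintro ⟨P, hP⟩
    haveI := hP.1.1
    obtain ⟨Q, -, hQ, hQP⟩ := Ideal.exists_ideal_over_prime_of_isIntegral (R := Ah) P (⊥ : Ideal CN)
      (by rw [← RingHom.ker_eq_comap_bot]; exact ((RingHom.injective_iff_ker_eq_bot π).mp hπinj).le.trans bot_le)
    let Q' := Q.comap g
    haveI : Q'.IsPrime := Ideal.comap_isPrime _ _
    have hQ'P : Q'.comap h = P := by rw [Ideal.comap_comap, hgh]; exact hQP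
    have hPA : P.comap (algebraMap A Ah) ∈ I.minimalPrimes := by
      refine ⟨⟨Ideal.comap_isPrime _ _, Ideal.map_le_iff_le_comap.mp hP.1.2⟩, fun p ⟨hp, hIp⟩ hle => ?_⟩
      haveI := hp
      haveI : P.LiesOver (P.comap (algebraMap A Ah)) := ⟨rfl⟩
      obtain ⟨P', hP', hP'p, hP'o⟩ :=
        P.exists_ideal_le_liesOver_of_le (p := p) (q := P.comap (algebraMap A Ah)) hle
      have : P ≤ P' := hP.2 ⟨hP'p, Ideal.map_le_iff_le_comap.mpr (hIp.trans hP'o.over.le)⟩ hP'
      exact (Ideal.comap_mono this).trans hP'o.over.ge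
    have hJQ : JB ≤ Q' := Ideal.map_le_iff_le_comap.mpr
      (h1 _ (Ideal.comap_isPrime _ _) (by rw [← hpre, hQ'P]; exact hPA))
    refine ⟨⟨Q', ⟨⟨inferInstance, hJQ⟩, fun Q'' ⟨hQ''p, hQ''⟩ hle => ?_⟩⟩, hQ'P⟩
    haveI := hQ''p
    have hI'' : IA ≤ Q''.comap h := Ideal.map_le_iff_le_comap.mpr (by
      rw [hpre]
      exact h2 _ (Ideal.comap_isPrime _ _) (Ideal.map_le_iff_le_comap.mp hQ''))
    have heq : Q''.comap h = P :=
      le_antisymm (hQ'P ▸ Ideal.comap_mono hle)
        (hP.2 ⟨Ideal.comap_isPrime _ _, hI''⟩ (hQ'P ▸ Ideal.comap_mono hle))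
    have hB : Q''.comap (algebraMap B Bh) = Q'.comap (algebraMap B Bh) :=
      hinc _ _ (Ideal.comap_isPrime _ _) (Ideal.comap_isPrime _ _) (Ideal.comap_mono hle)
        (by rw [← hpre, ← hpre, heq, hQ'P])
    exact (Henselian.Permanence.eq_of_le_of_comap_eq (R := B) (S := Bh) hle hB).ge
  choose F hF using key
  exact ENat.card_le_card_of_injective (f := F) fun P P' hPP' =>
    Subtype.ext (by rw [← hF P, ← hF P', hPP'])

end Groth.Agent.Lib.BranchIneq74.Basic
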