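import Groth.Agent.Lib.BranchIneq74.Basic
import Groth.Agent.Lib.Henselian.StrictHenselization
import Groth.Agent.Lib.Unram.BranchFibre
import Mathlib.FieldTheory.PurelyInseparable.Basic

/-!
# Geometric branches do not decrease along finite covers of normal domains
-/

set_option autoImplicit false
set_option linter.style.haveILetI false

universe u

open IsLocalRing
open scoped TensorProduct

namespace Groth.Agent.Lib.BranchIneq74.Strict

open Groth.Agent.Lib
open Groth.Agent.Lib.Henselian.StrictHenselization (StrictHenselization)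

/-- Geometric branches of a quotient, read off from the strict henselization. -/
theorem numGeomBranches_quotient (A : Type u) [CommRing A] [IsLocalRing A] (I : Ideal A) (hI : I ≠ ⊤) :
    haveI : Nontrivial (A ⧸ I) := Ideal.Quotient.nontrivial_iff.mpr hI
    haveI : IsLocalRing (A ⧸ I) := .of_surjective' _ Ideal.Quotient.mk_surjective
    ENat.card ((I.map (algebraMap A (StrictHenselization A))).minimalPrimes) =
      Brnch.numGeomBranches (A ⧸ I) := by
  haveI : Nontrivial (A ⧸ I) := Ideal.Quotient.nontrivial_iff.mpr hI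
  haveI : IsLocalRing (A ⧸ I) := .of_surjective' _ Ideal.Quotient.mk_surjective
  rw [Unram.BranchFibre.card_strict_quot A (A ⧸ I) Ideal.Quotient.mk_surjective]
  have hJ : Unram.BranchFibre.J A (A ⧸ I) (StrictHenselization A) =
      I.map (algebraMap A (StrictHenselization A)) := by
    show (RingHom.ker (algebraMap A (A ⧸ I))).map _ = _
    rw [Ideal.Quotient.algebraMap_eq, Ideal.mk_ker]
  rw [← hJ, Ideal.minimalPrimes_eq_comap]
  exact ENat.card_congr
    (Equiv.Set.image _ _ (Ideal.comap_injective_of_surjective _ Ideal.Quotient.mk_surjective)).symm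

variable (R₀ S₀ A B : Type u) [CommRing R₀] [CommRing S₀] [CommRing A] [CommRing B]
  [IsDomain R₀] [IsDomain S₀] [Algebra R₀ S₀] [Module.Finite R₀ S₀]
  (m : Ideal R₀) [m.IsPrime] (n : Ideal S₀) [n.IsPrime]
  [Algebra R₀ A] [IsLocalization.AtPrime A m] [Algebra S₀ B] [IsLocalization.AtPrime B n]
  [IsLocalRing A] [IsLocalRing B] [IsDomain A] [IsIntegrallyClosed A]

include m n in
set_option maxHeartbeats 1000000 in
/-- The geometric branches of a closed subscheme downstairs are at most those of one upstairs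
containing all primes over its generic points. -/
theorem numGeomBranches_le (hinj : Function.Injective (algebraMap R₀ S₀))
    (φ : A →+* B) [IsLocalHom φ]
    (hφ : φ.comp (algebraMap R₀ A) = (algebraMap S₀ B).comp (algebraMap R₀ S₀))
    (I : Ideal A) (J : Ideal B) (hI : I ≠ ⊤) (hJ : J ≠ ⊤)
    (h1 : ∀ q : Ideal B, q.IsPrime → q.comap φ ∈ I.minimalPrimes → J ≤ q)
    (h2 : ∀ q : Ideal B, q.IsPrime → J ≤ q → I ≤ q.comap φ) :
    haveI : Nontrivial (A ⧸ I) := Ideal.Quotient.nontrivial_iff.mpr hI
    haveI : IsLocalRing (A ⧸ I) := .of_surjective' _ Ideal.Quotient.mk_surjective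
    haveI : Nontrivial (B ⧸ J) := Ideal.Quotient.nontrivial_iff.mpr hJ
    haveI : IsLocalRing (B ⧸ J) := .of_surjective' _ Ideal.Quotient.mk_surjective
    Brnch.numGeomBranches (A ⧸ I) ≤ Brnch.numGeomBranches (B ⧸ J) := by
  rw [← numGeomBranches_quotient A I hI, ← numGeomBranches_quotient B J hJ]
  let Ah := StrictHenselization A
  let Bh := StrictHenselization B
  haveI := Henselian.StrictHenselization.faithfullyFlat A Ah
  -- the strict henselization of a normal domain is a domain
  haveI : IsDomain Ah := by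
    have hind : EtPBC.IsIndEtale A Ah := Henselian.IndEtale.isIndEtale_lim
    haveI := Unram.BranchHenselian.isDomain_localization A Ah hind (maximalIdeal Ah)
    exact (IsLocalization.atUnits Ah (maximalIdeal Ah).primeCompl
      (S := Localization.AtPrime (maximalIdeal Ah)) (fun x hx =>
        show IsUnit x from not_not.mp hx)).toMulEquiv.isDomain
  letI : Algebra R₀ Ah := ((algebraMap A Ah).comp (algebraMap R₀ A)).toAlgebra
  haveI : IsScalarTower R₀ A Ah := IsScalarTower.of_algebraMap_eq' rfl
  haveI : Module.Flat R₀ A := IsLocalization.flat A m.primeCompl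
  haveI : Module.Flat R₀ Ah := Module.Flat.trans R₀ A Ah
  let C := Ah ⊗[R₀] S₀
  let iS : S₀ →+* C := (Algebra.TensorProduct.includeRight (R := R₀) (A := Ah) (B := S₀)).toRingHom
  have hcomm : ∀ r : R₀, iS (algebraMap R₀ S₀ r) = algebraMap Ah C (algebraMap R₀ Ah r) := fun r =>
    (Algebra.TensorProduct.includeRight (R := R₀) (A := Ah) (B := S₀)).commutes r
  -- the map of strict henselizations
  haveI := (inferInstance : Hensel.IsStrictHenselization A Ah).isSepClosure
  haveI := (inferInstance : Hensel.IsStrictHenselization B Bh).isSepClosure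
  haveI : IsSepClosed (ResidueField Bh) := IsSepClosure.sep_closed (ResidueField B)
  haveI : IsSepClosed (ResidueField Ah) := IsSepClosure.sep_closed (ResidueField A)
  haveI : Algebra.IsSeparable (ResidueField A) (ResidueField Ah) := IsSepClosure.separable
  haveI : Algebra.IsSeparable (ResidueField B) (ResidueField Bh) := IsSepClosure.separable
  haveI : IsLocalHom ((algebraMap B Bh).comp φ) := RingHom.isLocalHom_comp _ _
  obtain ⟨τh, hτh⟩ : ∃ τ : ResidueField Ah →+* ResidueField Bh,
      τ.comp (ResidueField.map (algebraMap A Ah)) = ResidueField.map ((algebraMap B Bh).comp φ) := by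
    letI : Algebra (ResidueField A) (ResidueField Bh) :=
      (ResidueField.map ((algebraMap B Bh).comp φ)).toAlgebra
    let l : ResidueField Ah →ₐ[ResidueField A] ResidueField Bh := IsSepClosed.lift
    exact ⟨l.toRingHom, l.comp_algebraMap⟩
  obtain ⟨h, ⟨hh, hhres⟩, -⟩ := Hensel.IsStrictHenselization.universal (R := A) (S := Ah) Bh
    ((algebraMap B Bh).comp φ) τh hτh
  -- the maximal ideal of `C` over `n`
  let Ω := ResidueField Bh
  let σ : Ah →+* Ω := (residue Bh).comp h
  letI : Algebra R₀ Ω := (((residue Bh).comp ((algebraMap B Bh).comp φ)).comp (algebraMap R₀ A)).toAlgebra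
  let σₐ : Ah →ₐ[R₀] Ω :=
    { σ with commutes' := fun r => congrArg (residue Bh) (RingHom.congr_fun hh (algebraMap R₀ A r)) }
  let τS : S₀ →ₐ[R₀] Ω :=
    { ((residue Bh).comp (algebraMap B Bh)).comp (algebraMap S₀ B) with
      commutes' := fun r => congrArg (fun b => residue Bh (algebraMap B Bh b)) (RingHom.congr_fun hφ r).symm }
  let τ : C →ₐ[R₀] Ω := Algebra.TensorProduct.lift σₐ τS fun _ _ => Commute.all _ _
  let N : Ideal C := RingHom.ker τ
  haveI : N.IsPrime := RingHom.ker_isPrime _
  haveI : IsLocalHom h := by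
    refine ((local_hom_TFAE h).out 0 2).mpr ?_
    rw [← Henselian.StrictHenselization.map_maximalIdeal A Ah, Ideal.map_map, hh]
    exact ((local_hom_TFAE _).out 0 2).mp ‹IsLocalHom ((algebraMap B Bh).comp φ)›
  have hNA : N.comap (algebraMap Ah C) = maximalIdeal Ah := by
    ext a
    show τ (a ⊗ₜ[R₀] (1 : S₀)) = 0 ↔ _
    rw [Algebra.TensorProduct.lift_tmul, map_one, mul_one]
    show residue Bh (h a) = 0 ↔ _
    rw [residue_eq_zero_iff]
    exact ⟨fun ha hu => ha (hu.map h), fun ha => map_nonunit h a ha⟩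
  haveI : Algebra.IsIntegral Ah C := Algebra.IsIntegral.of_finite Ah C
  haveI : N.IsMaximal := Ideal.isMaximal_of_isIntegral_of_isMaximal_comap (R := Ah) N (by rw [hNA]; infer_instance)
  have hNS : N.comap iS = n := by
    ext s
    show τ ((1 : Ah) ⊗ₜ[R₀] s) = 0 ↔ _
    rw [Algebra.TensorProduct.lift_tmul, map_one, one_mul]
    show residue Bh (algebraMap B Bh (algebraMap S₀ B s)) = 0 ↔ _
    rw [residue_eq_zero_iff, mem_maximalIdeal, mem_nonunits_iff, isUnit_map_iff]
    exact IsLocalization.AtPrime.to_map_mem_maximal_iff B n s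
  -- a component of `C` through `N`
  have hnzd : ∀ a : Ah, a ≠ 0 → algebraMap Ah C a ∈ nonZeroDivisors C := by
    intro a ha0
    refine mem_nonZeroDivisors_iff_right.mpr fun t ht => ?_
    haveI : FaithfulSMul R₀ S₀ := (faithfulSMul_iff_algebraMap_injective R₀ S₀).mpr hinj
    obtain ⟨r, f, hf⟩ := Dim.FieldExt.exists_injective_pi R₀ S₀
    have hF : Function.Injective (f.baseChange Ah) :=
      Module.Flat.lTensor_preserves_injective_linearMap f hf
    let e := TensorProduct.piScalarRight R₀ Ah Ah (Fin r)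
    have h1 : a • t = 0 := by rw [Algebra.smul_def, mul_comm]; exact ht
    have h2 := congrArg (fun z => e (f.baseChange Ah z)) h1
    simp only [map_smul, map_zero] at h2
    exact hF (e.injective (by rw [(smul_eq_zero.mp h2).resolve_left ha0, map_zero, map_zero]))
  obtain ⟨Q₀, hQ₀, hQ₀N⟩ := Ideal.exists_minimalPrimes_le (I := (⊥ : Ideal C)) (J := N) bot_le
  haveI := hQ₀.1.1
  let D := C ⧸ Q₀
  haveI : Algebra.IsIntegral Ah D := ⟨fun x => by
    obtain ⟨x, rfl⟩ := Ideal.Quotient.mk_surjective x
    exact (Algebra.IsIntegral.isIntegral (R := Ah) x).map (Ideal.Quotient.mkₐ Ah Q₀)⟩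
  haveI : IsLocalRing D := Henselian.Unibranch.isLocalRing_of_isDomain Ah D
  haveI : HenselianLocalRing D := Henselian.LocalRing.henselianLocalRing_of_isIntegral Ah D
  let π : Ah →+* D := algebraMap Ah D
  have hπint : π.IsIntegral := algebraMap_isIntegral_iff.mpr inferInstance
  have hπinj : Function.Injective π := by
    rw [injective_iff_map_eq_zero]
    intro a ha
    by_contra ha0
    exact Set.disjoint_left.mp (Ideal.disjoint_nonZeroDivisors_of_mem_minimalPrimes hQ₀)
      (Ideal.Quotient.eq_zero_iff_mem.mp ha) (hnzd a ha0)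
  haveI : IsLocalHom π := RingHom.IsIntegral.isLocalHom hπint hπinj
  let ρ : D →+* Ω := Ideal.Quotient.lift Q₀ τ.toRingHom fun c hc => hQ₀N hc
  have hρmax : RingHom.ker ρ = maximalIdeal D := by
    refine eq_maximalIdeal ?_
    have hker : RingHom.ker ρ = N.map (Ideal.Quotient.mk Q₀) := Ideal.ker_quotient_lift _ _
    rw [hker]
    refine (Ideal.map_eq_top_or_isMaximal_of_surjective _ Ideal.Quotient.mk_surjective
      (inferInstance : N.IsMaximal)).resolve_left fun htop => ?_
    exact RingHom.ker_ne_top ρ (hker.trans htop)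
  have hρloc : ∀ x : D, ρ x ≠ 0 → IsUnit x := fun x hx => by
    by_contra hu
    exact hx (hρmax.ge hu : x ∈ RingHom.ker ρ)
  let ρb : ResidueField D →+* Ω := Ideal.Quotient.lift (maximalIdeal D) ρ fun x hx => hρmax.ge hx
  have hρb : ∀ x : D, ρb (residue D x) = ρ x := fun _ => rfl
  have hρπ : ∀ a, ρ (π a) = residue Bh (h a) := fun a => by
    show τ (a ⊗ₜ[R₀] (1 : S₀)) = _
    rw [Algebra.TensorProduct.lift_tmul, map_one, mul_one]
    rfl
  -- `ψ : B → D`
  have hρS : ∀ s : S₀, ρ (Ideal.Quotient.mk Q₀ (iS s)) = residue Bh (algebraMap B Bh (algebraMap S₀ B s)) :=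
    fun s => by
    show τ ((1 : Ah) ⊗ₜ[R₀] s) = _
    rw [Algebra.TensorProduct.lift_tmul, map_one, one_mul]
    rfl
  have hunit : ∀ s : n.primeCompl, IsUnit ((Ideal.Quotient.mk Q₀).comp iS s) := fun s =>
    hρloc _ fun h0 => s.2 (hNS.le (show iS s ∈ N from h0))
  let ψ : B →+* D := IsLocalization.lift hunit
  have hρψ : ρ.comp ψ = (residue Bh).comp (algebraMap B Bh) := by
    refine IsLocalization.ringHom_ext n.primeCompl (RingHom.ext fun s => ?_)
    show ρ (ψ (algebraMap S₀ B s)) = _
    rw [IsLocalization.lift_eq]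
    exact hρS s
  haveI : IsLocalHom ψ := by
    refine ⟨fun b hb => ?_⟩
    have h0 : IsUnit (ρ (ψ b)) := hb.map ρ
    rw [show ρ (ψ b) = residue Bh (algebraMap B Bh b) from RingHom.congr_fun hρψ b] at h0
    exact isUnit_of_map_unit (algebraMap B Bh) b (isUnit_of_map_unit (residue Bh) _ h0)
  -- the residue field of `D` is `Ω`
  letI : Algebra (ResidueField D) Ω := ρb.toAlgebra
  haveI : Algebra.IsAlgebraic (ResidueField Ah) (ResidueField D) := by
    refine ⟨fun x => ?_⟩
    obtain ⟨x, rfl⟩ := residue_surjective x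
    have hx : IsIntegral Ah (residue D x) := (Algebra.IsIntegral.isIntegral (R := Ah) x).map
      (IsScalarTower.toAlgHom Ah D (ResidueField D))
    exact (hx.tower_top (A := ResidueField Ah)).isAlgebraic
  haveI : IsSepClosed (ResidueField D) :=
    Algebra.IsAlgebraic.isSepClosed (F := ResidueField Ah)
  letI : Algebra (ResidueField B) (ResidueField D) := (ResidueField.map ψ).toAlgebra
  haveI : IsScalarTower (ResidueField B) (ResidueField D) Ω := IsScalarTower.of_algebraMap_eq fun x => by
    obtain ⟨b, rfl⟩ := residue_surjective x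
    exact (RingHom.congr_fun hρψ b).symm
  haveI : Algebra.IsSeparable (ResidueField D) Ω :=
    Algebra.isSeparable_tower_top_of_isSeparable (ResidueField B) (ResidueField D) Ω
  have hρb_bij : Function.Bijective ρb := IsSepClosed.algebraMap_bijective (k := ResidueField D) (K := Ω)
  let e : Ω →+* ResidueField D := (RingEquiv.ofBijective ρb hρb_bij).symm.toRingHom
  have he : e.comp (ResidueField.map (algebraMap B Bh)) = ResidueField.map ψ := by
    ext x
    apply hρb_bij.1
    show ρb ((RingEquiv.ofBijective ρb hρb_bij).symm _) = _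
    refine (RingEquiv.apply_symm_apply (RingEquiv.ofBijective ρb hρb_bij) _).trans ?_
    obtain ⟨b, rfl⟩ := residue_surjective x
    exact (RingHom.congr_fun hρψ b).symm
  obtain ⟨g, ⟨hg, hgres⟩, -⟩ := Hensel.IsStrictHenselization.universal (R := B) (S := Bh) D ψ e he
  haveI : IsLocalHom (π.comp (algebraMap A Ah)) := RingHom.isLocalHom_comp _ _
  have hψφ : ψ.comp φ = π.comp (algebraMap A Ah) := by
    refine IsLocalization.ringHom_ext m.primeCompl (RingHom.ext fun r => ?_)
    show ψ (φ (algebraMap R₀ A r)) = Ideal.Quotient.mk Q₀ (algebraMap Ah C (algebraMap A Ah (algebraMap R₀ A r)))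
    rw [show φ (algebraMap R₀ A r) = algebraMap S₀ B (algebraMap R₀ S₀ r) from RingHom.congr_fun hφ r,
      IsLocalization.lift_eq, RingHom.comp_apply, hcomm]
    rfl
  have hgh : g.comp h = π := by
    have hπres : ∀ x, residue D (π x) = ResidueField.map π (residue Ah x) := fun _ => rfl
    obtain ⟨u₀, -, huniq⟩ := Hensel.IsStrictHenselization.universal (R := A) (S := Ah) D
      (π.comp (algebraMap A Ah)) (ResidueField.map π) (by
        ext a
        obtain ⟨a, rfl⟩ := residue_surjective a
        rfl)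
    refine (huniq _ ⟨?_, fun x => ?_⟩).trans (huniq π ⟨rfl, hπres⟩).symm
    · show (g.comp h).comp (algebraMap A Ah) = π.comp (algebraMap A Ah)
      rw [RingHom.comp_assoc, hh, ← RingHom.comp_assoc, hg, hψφ]
    · apply hρb_bij.1
      show ρb (residue D (g (h x))) = ρb (residue D (π x))
      rw [hgres, hρb, hρπ]
      exact RingEquiv.apply_symm_apply (RingEquiv.ofBijective ρb hρb_bij) _
  -- lifting minimal primes
  let IA : Ideal Ah := I.map (algebraMap A Ah)
  let JB : Ideal Bh := J.map (algebraMap B Bh)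
  have hpre : ∀ Q : Ideal Bh, (Q.comap h).comap (algebraMap A Ah) =
      (Q.comap (algebraMap B Bh)).comap φ := fun Q => by
    rw [Ideal.comap_comap, hh, ← Ideal.comap_comap]
  have hinc : ∀ q q' : Ideal B, q.IsPrime → q'.IsPrime → q' ≤ q → q'.comap φ = q.comap φ → q' = q := by
    intro q q' hq hq' hle heq
    have hS : q'.comap (algebraMap S₀ B) = q.comap (algebraMap S₀ B) := by
      by_contra hne
      haveI : Algebra.IsIntegral R₀ S₀ := Algebra.IsIntegral.of_finite R₀ S₀
      haveI := Ideal.comap_isPrime (algebraMap S₀ B) q'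
      have := Ideal.IsIntegral.comap_lt_comap (R := R₀) (lt_of_le_of_ne (Ideal.comap_mono hle) hne)
      refine this.ne ?_
      rw [Ideal.comap_comap, Ideal.comap_comap, ← hφ, ← Ideal.comap_comap, ← Ideal.comap_comap, heq]
    rw [← IsLocalization.map_under n.primeCompl B q', ← IsLocalization.map_under n.primeCompl B q]
    exact congrArg (Ideal.map (algebraMap S₀ B)) hS
  have key : ∀ P : IA.minimalPrimes, ∃ Q : JB.minimalPrimes, Q.1.comap h = P.1 := by
    rintro ⟨P, hP⟩
    haveI := hP.1.1
    obtain ⟨Q, -, hQ, hQP⟩ := Ideal.exists_ideal_over_prime_of_isIntegral (R := Ah) P (⊥ : Ideal D)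
      (by rw [← RingHom.ker_eq_comap_bot]; exact ((RingHom.injective_iff_ker_eq_bot π).mp hπinj).le.trans bot_le)
    let Q' := Q.comap g
    haveI : Q'.IsPrime := Ideal.comap_isPrime _ _
    have hQ'P : Q'.comap h = P := by rw [Ideal.comap_comap, hgh]; exact hQP
    have hPA : P.comap (algebraMap A Ah) ∈ I.minimalPrimes := by
      refine ⟨⟨Ideal.comap_isPrime _ _, Ideal.map_le_iff_le_comap.mp hP.1.2⟩, fun p ⟨hp, hIp⟩ hle => ?_⟩
      haveI := hp
      haveI : P.LiesOver (P.comap (algebraMap A Ah)) := ⟨rfl⟩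
      obtain ⟨P', hP', hP'p, hP'o⟩ :=
        P.exists_ideal_le_liesOver_of_le (p := p) (q := P.comap (algebraMap A Ah)) hle
      have : P ≤ P' := hP.2 ⟨hP'p, Ideal.map_le_iff_le_comap.mpr (hIp.trans hP'o.over.le)⟩ hP'
      exact (Ideal.comap_mono this).trans hP'o.over.ge
    have hJQ : JB ≤ Q' := Ideal.map_le_iff_le_comap.mpr
      (h1 _ (Ideal.comap_isPrime _ _) (by rw [← hpre, hQ'P]; exact hPA))
    refine ⟨⟨Q', ⟨⟨inferInstance, hJQ⟩, fun Q'' ⟨hQ''p, hQ''⟩ hle => ?_⟩⟩, hQ'P⟩
    haveI := hQ''p
    have hI'' : IA ≤ Q''.comap h := Ideal.map_le_iff_le_comap.mpr (by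
      rw [hpre]
      exact h2 _ (Ideal.comap_isPrime _ _) (Ideal.map_le_iff_le_comap.mp hQ''))
    have heq : Q''.comap h = P :=
      le_antisymm (hQ'P ▸ Ideal.comap_mono hle)
        (hP.2 ⟨Ideal.comap_isPrime _ _, hI''⟩ (hQ'P ▸ Ideal.comap_mono hle))
    have hB : Q''.comap (algebraMap B Bh) = Q'.comap (algebraMap B Bh) :=
      hinc _ _ (Ideal.comap_isPrime _ _) (Ideal.comap_isPrime _ _) (Ideal.comap_mono hle)
        (by rw [← hpre, ← hpre, heq, hQ'P])
    exact (Henselian.Permanence.strict_eq_of_le_of_comap_eq (R := B) (S := Bh) hle hB).ge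
  choose F hF using key
  exact ENat.card_le_card_of_injective (f := F) fun P P' hPP' =>
    Subtype.ext (by rw [← hF P, ← hF P', hPP'])

end Groth.Agent.Lib.BranchIneq74.Strict
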